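import Groth.Agent.ExtGlue.Main
import Groth.Agent.ConnInf.Main
import Groth.Agent.Pi1Ext.Spread
import Groth.Agent.Pi1X.FEtFull
import Groth.Agent.S0247
import Groth.Agent.S2743
import Groth.Agent.S0539
import Groth.Agent.S0538
import Mathlib.AlgebraicGeometry.FunctionField
import Groth.Agent.RegLoc6.Serre

set_option autoImplicit false
set_option backward.isDefEq.respectTransparency false
set_option backward.isDefEq.respectTransparency.types false
universe u

open CategoryTheory CategoryTheory.Limits AlgebraicGeometry TopologicalSpace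

noncomputable section

namespace Groth.Agent.RegExt

open Pi1Ext.Spread

/-- Maximal points of a locally Noetherian scheme lie in every dense open. -/
theorem mem_of_maximal {X : Scheme.{u}} [IsLocallyNoetherian X] (U : X.Opens) (hU : Dense (U : Set X)) (x : X)
    (hx : ∀ y : X, y ⤳ x → y = x) : x ∈ U := by
  obtain ⟨W, hW, hxW, -⟩ := exists_isAffineOpen_mem_and_subset (x := x) (U := ⊤) trivial
  haveI : IsAffine W.toScheme := hW
  haveI : IsNoetherian W.toScheme := {}
  haveI : NoetherianSpace ↥W := (inferInstance : NoetherianSpace ↥W.toScheme)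
  let w : W := ⟨x, hxW⟩
  haveI : QuasiSober ↥W := W.2.isOpenEmbedding_subtypeVal.quasiSober
  have hfin := TopologicalSpace.NoetherianSpace.finite_irreducibleComponents (α := ↥W)
  let C : Set W := ⋃ T ∈ {T ∈ irreducibleComponents ↥W | w ∉ T}, T
  have hC : IsClosed C := (hfin.subset fun _ h => h.1).isClosed_biUnion fun T hT =>
    isClosed_of_mem_irreducibleComponents T hT.1
  obtain ⟨y, hy, hyU⟩ := hU.inter_open_nonempty _ (W.2.isOpenEmbedding_subtypeVal.isOpenMap _ hC.isOpen_compl)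
    ⟨x, w, by simp [C], rfl⟩
  obtain ⟨y, hyC, rfl⟩ := hy
  have hyT := irreducibleComponent_mem_irreducibleComponents y
  have hwT : w ∈ irreducibleComponent y := by
    by_contra h
    exact hyC (Set.mem_biUnion (show irreducibleComponent y ∈ {T ∈ irreducibleComponents ↥W | w ∉ T} from ⟨hyT, h⟩) mem_irreducibleComponent)
  have hg := hyT.1.isGenericPoint_genericPoint isClosed_irreducibleComponent
  have hgw : hyT.1.genericPoint = w := Subtype.ext (hx _ ((hg.specializes hwT).map continuous_subtype_val))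
  have : w ⤳ y := hgw ▸ hg.specializes mem_irreducibleComponent
  exact (this.map continuous_subtype_val).mem_open U.2 hyU

theorem one_le_dim {X : Scheme.{u}} [IsLocallyNoetherian X] (U : X.Opens) (hU : Dense (U : Set X)) (x : X) (hx : x ∉ U) :
    ∃ p : PrimeSpectrum (X.presheaf.stalk x), p ≠ IsLocalRing.closedPoint _ ∧
      p.asIdeal < IsLocalRing.maximalIdeal (X.presheaf.stalk x) := by
  by_contra! h
  refine hx (mem_of_maximal U hU x fun y hy => ?_)
  obtain ⟨p, hp⟩ : y ∈ Set.range (X.fromSpecStalk x) := by rw [Scheme.range_fromSpecStalk]; exact hy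
  by_cases hpc : p = IsLocalRing.closedPoint _
  · rw [← hp, hpc, Scheme.fromSpecStalk_closedPoint]
  · exact absurd (lt_of_le_of_ne (IsLocalRing.le_maximalIdeal (Ideal.IsPrime.ne_top p.isPrime))
      fun e => hpc (PrimeSpectrum.ext e)) (h p hpc)

/-- Connectedness at infinity from regularity. -/
theorem connectedSpace_punctured {X : Scheme.{u}} [IsLocallyNoetherian X] (U : X.Opens) (hU : Dense (U : Set X))
    (x : X) (hx : x ∉ U) (hreg : IsRegularLocalRing (X.presheaf.stalk x))
    (R : Type u) [CommRing R] [IsLocalRing R] [Algebra (X.presheaf.stalk x) R]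
    [IsLocalHom (algebraMap (X.presheaf.stalk x) R)] [Hensel.IsStrictHenselization (X.presheaf.stalk x) R] :
    ConnectedSpace (FEt.puncturedSpec R : Scheme.{u}) := by
  haveI : IsRegularLocalRing R := (Groth.Agent.S2743.result (X.presheaf.stalk x) R).2 hreg
  haveI : IsDomain R := RegLoc6.isDomain_of_isRegularLocalRing R
  haveI := Groth.Agent.S0539.result (X.presheaf.stalk x) R
  obtain ⟨p, hp, -⟩ := one_le_dim U hU x hx
  obtain ⟨q, hq⟩ := PrimeSpectrum.comap_surjective_of_faithfullyFlat (A := X.presheaf.stalk x) (B := R) p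
  have hqne : q ≠ IsLocalRing.closedPoint R := by
    rintro rfl
    exact hp (hq.symm.trans (IsLocalRing.comap_closedPoint (algebraMap (X.presheaf.stalk x) R)))
  haveI : Nonempty ↥(FEt.puncturedSpec R : Scheme.{u}) := ⟨⟨q, hqne⟩⟩
  haveI : IrreducibleSpace ↥(Spec (CommRingCat.of R)) := inferInstanceAs (IrreducibleSpace (PrimeSpectrum R))
  exact isConnected_iff_connectedSpace.1
    ((IsPreirreducible.open_subset (PreirreducibleSpace.isPreirreducible_univ) (FEt.puncturedSpec R).2
      (Set.subset_univ _)).isPreconnected |> fun h => ⟨⟨q, hqne⟩, h⟩)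

/-- Restriction to the regular part is fully faithful over every open. -/
theorem fullyFaithful {X : Scheme.{u}} [IsLocallyNoetherian X] (U : X.Opens) (hU : Dense (U : Set X))
    (hreg : ∀ x : X, x ∉ U → IsRegularLocalRing (X.presheaf.stalk x)) (W : X.Opens) :
    (FEt.restrict (X.homOfLE (inf_le_left : W ⊓ U ≤ W))).Full ∧
      (FEt.restrict (X.homOfLE (inf_le_left : W ⊓ U ≤ W))).Faithful := by
  let V : (W : Scheme.{u}).Opens := W.ι ⁻¹ᵁ U
  have hV : Dense (V : Set ↥(W : Scheme.{u})) := hU.preimage W.ι.isOpenEmbedding.isOpenMap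
  obtain ⟨hfull, hfaith⟩ := ConnInf.restrict_fullyFaithful V hV
    (fun E C hC w hw => by
      haveI : IsFinite E.hom := E.prop.1
      haveI : Etale E.hom := E.prop.2
      exact ConnInf.hgen_of_finite_irreducibleComponents (X := (W : Scheme.{u})) (pullback.fst E.hom V.ι) E.hom
        (fun O hO => by
          haveI : CompactSpace ↥O := isCompact_iff_compactSpace.1 hO
          haveI : IsNoetherian (O : Scheme.{u}) := { toIsLocallyNoetherian := inferInstance, toCompactSpace := ‹CompactSpace ↥O› }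
          haveI : NoetherianSpace ↥O := (inferInstance : NoetherianSpace ↥(O : Scheme.{u}))
          exact TopologicalSpace.NoetherianSpace.finite_irreducibleComponents (α := ↥O)) C hC w hw)
    (fun w hw R _ _ _ _ _ => by
      have hr : IsRegularLocalRing ((W : Scheme.{u}).presheaf.stalk w) :=
        haveI := hreg w.1 hw
        IsRegularLocalRing.of_ringEquiv (W.stalkIso w).commRingCatIsoToRingEquiv.symm
      exact connectedSpace_punctured V hV w hw hr R)
  have hr : Set.range (X.homOfLE (inf_le_left : W ⊓ U ≤ W)) = Set.range V.ι := by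
    rw [Scheme.Opens.range_ι]
    ext z
    constructor
    · rintro ⟨y, rfl⟩; show ((X.homOfLE (inf_le_left : W ⊓ U ≤ W)) y).1 ∈ U; rw [Scheme.homOfLE_apply]; exact y.2.2
    · intro hz; exact ⟨⟨z.1, z.2, hz⟩, Subtype.ext (Scheme.homOfLE_apply _ _)⟩
  let κ := IsOpenImmersion.isoOfRangeEq (X.homOfLE (inf_le_left : W ⊓ U ≤ W)) V.ι hr
  obtain ⟨hκ₁, hκ₂⟩ := Pi1X.restrict_fullyFaithful_of_homeo κ.hom
  have iso : FEt.restrict (X.homOfLE (inf_le_left : W ⊓ U ≤ W)) ≅ FEt.restrict V.ι ⋙ FEt.restrict κ.hom :=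
    MorphismProperty.Over.pullbackComp κ.hom V.ι _ (IsOpenImmersion.isoOfRangeEq_hom_fac _ _ hr).symm
  exact ⟨Functor.Full.of_iso iso.symm, Functor.Faithful.of_iso iso.symm⟩

/-- Successive extension across minimal points, remembering the original cover. -/
theorem exists_extend_all {X : Scheme.{u}} [IsNoetherian X] (U : X.Opens) (V₀ : FEt.Cat (U : Scheme.{u}))
    (h : ∀ (O : X.Opens) (hle : U ≤ O) (V : FEt.Cat (O : Scheme.{u})),
      ((FEt.restrict (X.homOfLE hle)).obj V ≅ V₀) → ∀ x : X, x ∉ O → (∀ y, y ⤳ x → y ≠ x → y ∈ O) →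
      ∃ Ex : FEt.Cat (Spec (X.presheaf.stalk x)), Nonempty
        ((FEt.restrict (pullback.snd O.ι (X.fromSpecStalk x))).obj Ex ≅
          (FEt.restrict (pullback.fst O.ι (X.fromSpecStalk x))).obj V)) :
    ∃ Y : FEt.Cat X, Nonempty ((FEt.restrict U.ι).obj Y ≅ V₀) := by
  suffices key : ∀ (O : X.Opens) (hle : U ≤ O) (V : FEt.Cat (O : Scheme.{u})),
      ((FEt.restrict (X.homOfLE hle)).obj V ≅ V₀) → ∃ Y : FEt.Cat X, Nonempty ((FEt.restrict U.ι).obj Y ≅ V₀) from
    key U le_rfl V₀ ((MorphismProperty.Over.pullbackCongr (by simp)).app V₀ ≪≫ restrictId V₀)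
  intro O
  induction O using WellFoundedGT.induction with
  | _ O ih =>
    intro hle V eV
    by_cases hT : O = ⊤
    · subst hT
      haveI : IsIso (⊤ : X.Opens).ι := by
        rw [← Scheme.topIso_hom]; infer_instance
      exact ⟨(FEt.restrict (inv (⊤ : X.Opens).ι)).obj V, ⟨(restrictComp U.ι (inv (⊤ : X.Opens).ι) (X.homOfLE hle)
        (by rw [← cancel_mono (⊤ : X.Opens).ι]; simp) V).symm ≪≫ eV⟩⟩
    · obtain ⟨x, hx, hmin⟩ := exists_min_point O hT
      obtain ⟨Ex, ⟨ex⟩⟩ := h O hle V eV x hx hmin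
      obtain ⟨O', hle', V', hxO', ⟨eV'⟩⟩ := exists_extend_nbhd O V x Ex ex
      exact ih O' (lt_of_le_of_ne hle' fun he => hx (he ▸ hxO')) (hle.trans hle') V'
        (restrictComp (X.homOfLE hle) (X.homOfLE hle') _ (X.homOfLE_homOfLE _ _).symm V' ≪≫
          (FEt.restrict (X.homOfLE hle)).mapIso eV' ≪≫ eV)

theorem exists_ext_affine {X : Scheme.{u}} [IsLocallyNoetherian X] (U : X.Opens) (hU : Dense (U : Set X))
    (Y : FEt.Cat (U : Scheme.{u})) (hreg : ∀ x : X, x ∉ U → IsRegularLocalRing (X.presheaf.stalk x))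
    (hunr : ∀ ξ : X, ξ ∉ U → ringKrullDim (X.presheaf.stalk ξ) = 1 →
      ∃ Yξ : FEt.Cat (Spec (X.presheaf.stalk ξ)),
        Nonempty ((FEt.restrict (pullback.snd U.ι (X.fromSpecStalk ξ))).obj Yξ ≅
          (FEt.restrict (pullback.fst U.ι (X.fromSpecStalk ξ))).obj Y))
    (W : X.Opens) (hW : IsAffineOpen W) : Nonempty (ExtGlue.Ext U Y W) := by
  haveI : IsAffine W.toScheme := hW
  haveI : IsNoetherian W.toScheme := {}
  let V : (W : Scheme.{u}).Opens := W.ι ⁻¹ᵁ U
  let ρ : (V : Scheme.{u}) ⟶ (U : Scheme.{u}) := IsOpenImmersion.lift U.ι (V.ι ≫ W.ι) (by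
    rw [Scheme.Opens.range_ι]; rintro _ ⟨z, rfl⟩; exact z.2)
  have hρ : ρ ≫ U.ι = V.ι ≫ W.ι := IsOpenImmersion.lift_fac _ _ _
  obtain ⟨E, ⟨eE⟩⟩ := exists_extend_all V ((FEt.restrict ρ).obj Y) fun O hle VO eO x hx hmin => by
    have hxU : x.1 ∉ U := fun h => hx (hle h)
    have hr : IsRegularLocalRing ((W : Scheme.{u}).presheaf.stalk x) :=
      haveI := hreg x.1 hxU
      IsRegularLocalRing.of_ringEquiv (W.stalkIso x).commRingCatIsoToRingEquiv.symm
    haveI := hr
    by_cases hdim : (2 : WithBot ℕ∞) ≤ ringKrullDim ((W : Scheme.{u}).presheaf.stalk x)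
    · exact exists_local_extension O VO x (Groth.Agent.S0247.result _ hdim) hx hmin
    have hdimX : ringKrullDim (X.presheaf.stalk x.1) = ringKrullDim ((W : Scheme.{u}).presheaf.stalk x) :=
      (ringKrullDim_eq_of_ringEquiv (W.stalkIso x).commRingCatIsoToRingEquiv).symm
    obtain ⟨p₀, -, hp₀⟩ := one_le_dim U hU x.1 hxU
    have h1 : ringKrullDim (X.presheaf.stalk x.1) = 1 := by
      haveI := hreg x.1 hxU
      have hge : (1 : WithBot ℕ∞) ≤ ringKrullDim (X.presheaf.stalk x.1) :=
        Order.LTSeries.length_le_krullDim (RelSeries.fromListIsChain [p₀, IsLocalRing.closedPoint _] (by simp)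
          (List.IsChain.cons_cons (show p₀ < IsLocalRing.closedPoint _ from hp₀) (List.isChain_singleton _)))
      rw [hdimX] at hge ⊢
      obtain ⟨n, hn⟩ : ∃ n : ℕ, ringKrullDim ((W : Scheme.{u}).presheaf.stalk x) = n :=
        ⟨_, IsRegularLocalRing.spanFinrank_maximalIdeal.symm⟩
      rw [hn] at hdim hge ⊢
      norm_cast at hdim hge ⊢
      omega
    obtain ⟨Yξ, ⟨eξ⟩⟩ := hunr x.1 hxU h1
    let σ := Spec.map (W.ι.stalkMap x)
    have hσ : σ ≫ X.fromSpecStalk x.1 = (W : Scheme.{u}).fromSpecStalk x ≫ W.ι :=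
      Scheme.SpecMap_stalkMap_fromSpecStalk W.ι
    let q₁ := pullback.fst O.ι ((W : Scheme.{u}).fromSpecStalk x)
    let q₂ := pullback.snd O.ι ((W : Scheme.{u}).fromSpecStalk x)
    let t : pullback O.ι ((W : Scheme.{u}).fromSpecStalk x) ⟶ (V : Scheme.{u}) :=
      IsOpenImmersion.lift V.ι (q₁ ≫ O.ι) (by
        rw [Scheme.Opens.range_ι]
        rintro _ ⟨z, rfl⟩
        show ((q₁ ≫ O.ι) z).1 ∈ U
        let p := q₂ z
        have hzp : (q₁ ≫ O.ι) z = (W : Scheme.{u}).fromSpecStalk x p := by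
          rw [show q₁ ≫ O.ι = q₂ ≫ (W : Scheme.{u}).fromSpecStalk x from pullback.condition]; rfl
        have hzO : (q₁ ≫ O.ι) z ∈ O := (q₁ z).2
        rw [hzp] at hzO ⊢
        refine mem_of_maximal U hU _ fun y hy => ?_
        have hyW : y ∈ W := hy.mem_open W.2 ((W : Scheme.{u}).fromSpecStalk x p).2
        have hy' : (⟨y, hyW⟩ : ↥(W : Scheme.{u})) ⤳ (W : Scheme.{u}).fromSpecStalk x p :=
          Topology.IsInducing.subtypeVal.specializes_iff.1 hy
        obtain ⟨p', hp'⟩ : (⟨y, hyW⟩ : ↥(W : Scheme.{u})) ∈ Set.range ((W : Scheme.{u}).fromSpecStalk x) := by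
          rw [Scheme.range_fromSpecStalk]
          exact hy'.trans ((Scheme.range_fromSpecStalk (X := (W : Scheme.{u}))).subset ⟨p, rfl⟩)
        have hle' : p' ⤳ p := ((W : Scheme.{u}).fromSpecStalk x).isEmbedding.isInducing.specializes_iff.1 (hp'.symm ▸ hy')
        by_contra hne
        have hpc : p ≠ IsLocalRing.closedPoint _ := fun e => hx (by
          rwa [e, Scheme.fromSpecStalk_closedPoint] at hzO)
        have hlt : p'.asIdeal < p.asIdeal := lt_of_le_of_ne ((PrimeSpectrum.le_iff_specializes p' p).2 hle')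
          fun e => hne (congrArg Subtype.val (hp'.symm.trans (congrArg _ (PrimeSpectrum.ext e))))
        refine hdim ?_
        exact Order.LTSeries.length_le_krullDim (RelSeries.fromListIsChain
          ([p', p, IsLocalRing.closedPoint _] : List (PrimeSpectrum ((W : Scheme.{u}).presheaf.stalk x))) (by simp)
          (List.IsChain.cons_cons hlt (List.IsChain.cons_cons
            (lt_of_le_of_ne (IsLocalRing.le_maximalIdeal p.isPrime.ne_top) fun e => hpc (PrimeSpectrum.ext e))
            (List.isChain_singleton _)))))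
    have ht : t ≫ V.ι = q₁ ≫ O.ι := IsOpenImmersion.lift_fac _ _ _
    let t' : pullback O.ι ((W : Scheme.{u}).fromSpecStalk x) ⟶ pullback U.ι (X.fromSpecStalk x.1) :=
      pullback.lift (t ≫ ρ) (q₂ ≫ σ) (by
        rw [Category.assoc, hρ, ← Category.assoc, ht, Category.assoc, Category.assoc, hσ, pullback.condition_assoc])
    refine ⟨(FEt.restrict σ).obj Yξ, ⟨restrictSquare q₂ σ t' (pullback.snd _ _) (pullback.lift_snd _ _ _).symm Yξ ≪≫
      (FEt.restrict t').mapIso eξ ≪≫ restrictSquare t' (pullback.fst _ _) t ρ (pullback.lift_fst _ _ _) Y ≪≫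
      (FEt.restrict t).mapIso eO.symm ≪≫
      (restrictComp t ((W : Scheme.{u}).homOfLE hle) q₁ (by
        rw [← cancel_mono O.ι, Category.assoc, Scheme.homOfLE_ι, ht]) VO).symm⟩⟩
  let κ : (↑(W ⊓ U) : Scheme.{u}) ⟶ (V : Scheme.{u}) := IsOpenImmersion.lift V.ι (X.homOfLE inf_le_left) (by
    rw [Scheme.Opens.range_ι]; rintro _ ⟨z, rfl⟩; show ((X.homOfLE (inf_le_left : W ⊓ U ≤ W)) z).1 ∈ U; rw [Scheme.homOfLE_apply]; exact z.2.2)
  have hκ : κ ≫ V.ι = X.homOfLE (inf_le_left : W ⊓ U ≤ W) := IsOpenImmersion.lift_fac _ _ _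
  exact ⟨⟨E, restrictComp κ V.ι _ hκ.symm E ≪≫ (FEt.restrict κ).mapIso eE ≪≫
    (restrictComp κ ρ _ (by rw [← cancel_mono U.ι, Category.assoc, hρ, ← Category.assoc, hκ, X.homOfLE_ι, X.homOfLE_ι]) Y).symm⟩⟩

theorem exists_extension {X : Scheme.{u}} [IsLocallyNoetherian X] (U : X.Opens) (hU : Dense (U : Set X))
    (Y : FEt.Cat (U : Scheme.{u})) (hreg : ∀ x : X, x ∉ U → IsRegularLocalRing (X.presheaf.stalk x))
    (hunr : ∀ ξ : X, ξ ∉ U → ringKrullDim (X.presheaf.stalk ξ) = 1 →
      ∃ Yξ : FEt.Cat (Spec (X.presheaf.stalk ξ)),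
        Nonempty ((FEt.restrict (pullback.snd U.ι (X.fromSpecStalk ξ))).obj Yξ ≅
          (FEt.restrict (pullback.fst U.ι (X.fromSpecStalk ξ))).obj Y)) :
    ∃ Y' : FEt.Cat X, Nonempty ((FEt.restrict U.ι).obj Y' ≅ Y) :=
  ExtGlue.exists_extension (Opens.isBasis_iff_nbhd.2 fun {O x} hx => by
      obtain ⟨W, hW, hxW, hWO⟩ := exists_isAffineOpen_mem_and_subset hx
      exact ⟨W, exists_ext_affine U hU Y hreg hunr W hW, hxW, hWO⟩)
    (fullyFaithful U hU hreg) ⟨⟨Y, Iso.refl _⟩⟩

end Groth.Agent.RegExt
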